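import Cfsg.Agent.Lib.KnownSimple.MultM.HSL.ValC0
import Cfsg.Agent.Lib.KnownSimple.MultM.HSL.ValC1
import Cfsg.Agent.Lib.KnownSimple.MultC.ValH

/-!
# The relations between the relators
-/

set_option autoImplicit false

namespace Cfsg.Agent.Lib.KnownSimple.MultM.HSL

open Cfsg Cfsg.Spor Cfsg.Agent.Lib.Compute Cfsg.Agent.Lib.KnownSimple.PE Cfsg.Agent.Lib.KnownSimple.Leech
open Cfsg.Agent.Lib.KnownSimple Cfsg.Agent.Lib.KnownSimple.AutRigid Cfsg.Agent.Lib.KnownSimple.Pres
open Cfsg.Agent.Lib.KnownSimple.MultC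


theorem hEF : ∀ e, e < n * d → chkEdgeG 72057594037927936 mskM cKK C.τ d n RL 40 6 34 (lookP parT) (lookP genT) (lg 0 peL) tv e = true := by
  have h : allBelow fe 33600 = true :=
    allBelow_of_pad (m := 33) (s := 1024) (by norm_num) (fun c hc => by
    interval_cases c
    · exact ve0
    · exact ve1
    · exact ve2
    · exact ve3
    · exact ve4
    · exact ve5
    · exact ve6
    · exact ve7
    · exact ve8
    · exact ve9
    · exact ve10
    · exact ve11
    · exact ve12
    · exact ve13
    · exact ve14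
    · exact ve15
    · exact ve16
    · exact ve17
    · exact ve18
    · exact ve19
    · exact ve20
    · exact ve21
    · exact ve22
    · exact ve23
    · exact ve24
    · exact ve25
    · exact ve26
    · exact ve27
    · exact ve28
    · exact ve29
    · exact ve30
    · exact ve31
    · exact ve32
  )
  intro e he
  exact (allBelow_iff _ _).1 h e he
set_option maxHeartbeats 0 in
set_option maxRecDepth 100000 in
theorem hLn : allBelow (fun q => Nat.blt (((lg [] RL q).length + 1) * 1099511627776) 72057594037927936) 40 = true := by decide +kernel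
theorem hE : ∀ e, e < n * d → chkEdge C.τ d n RL 40 6 34 (lookP parT) (lookP genT) (lg 0 peL) (toV 72057594037927936 40 tv) e = true :=
  chkEdge_of_G (by norm_num) (good_of_mask (W := 56) (b := 40) (by norm_num) (by norm_num) (by norm_num) (by decide +kernel) (by decide +kernel))
    (fun l i hl hi => C.hlt l i hl hi) (fun q _ => words_lg hokR q) (len_of_chk hLn) hEF
set_option maxRecDepth 100000 in
/-- The relations. -/
def rowsF : List (ℕ × ℕ × List ℤ) := [(0,0,[.ofNat 2,.ofNat 0,.ofNat 0,.ofNat 0,.ofNat 0,.ofNat 0,.ofNat 0,.ofNat 0,.ofNat 0,.ofNat 0,.ofNat 0,.ofNat 0,.ofNat 0,.ofNat 0,.ofNat 0,.ofNat 0,.ofNat 0,.ofNat 0,.ofNat 0,.ofNat 0,.ofNat 0,.ofNat 0,.ofNat 0,.ofNat 0,.ofNat 0,.ofNat 0,.ofNat 0,.ofNat 0,.ofNat 0,.ofNat 0,.ofNat 0,.ofNat 0,.ofNat 0,.ofNat 0,.ofNat 0,.ofNat 0,.ofNat 0,.ofNat 0,.ofNat 0,.ofNat 0]),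
  (0,1,[.ofNat 0,.ofNat 2,.ofNat 0,.ofNat 0,.ofNat 0,.ofNat 0,.ofNat 0,.ofNat 0,.ofNat 0,.ofNat 0,.ofNat 0,.ofNat 0,.ofNat 0,.ofNat 0,.ofNat 0,.ofNat 0,.ofNat 0,.ofNat 0,.ofNat 0,.ofNat 0,.ofNat 0,.ofNat 0,.ofNat 0,.ofNat 0,.ofNat 0,.ofNat 0,.ofNat 0,.ofNat 0,.ofNat 0,.ofNat 0,.ofNat 0,.ofNat 0,.ofNat 0,.ofNat 0,.ofNat 0,.ofNat 0,.ofNat 0,.ofNat 0,.ofNat 0,.ofNat 0]),
  (0,2,[.ofNat 0,.ofNat 0,.ofNat 2,.ofNat 0,.ofNat 0,.ofNat 0,.ofNat 0,.ofNat 0,.ofNat 0,.ofNat 0,.ofNat 0,.ofNat 0,.ofNat 0,.ofNat 0,.ofNat 0,.ofNat 0,.ofNat 0,.ofNat 0,.ofNat 0,.ofNat 0,.ofNat 0,.ofNat 0,.ofNat 0,.ofNat 0,.ofNat 0,.ofNat 0,.ofNat 0,.ofNat 0,.ofNat 0,.ofNat 0,.ofNat 0,.ofNat 0,.ofNat 0,.ofNat 0,.ofNat 0,.ofNat 0,.ofNat 0,.ofNat 0,.ofNat 0,.ofNat 0]),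
  (0,3,[.ofNat 0,.ofNat 0,.ofNat 0,.ofNat 0,.ofNat 0,.ofNat 0,.ofNat 0,.ofNat 0,.ofNat 0,.ofNat 0,.ofNat 0,.ofNat 0,.ofNat 0,.ofNat 0,.ofNat 0,.ofNat 0,.ofNat 0,.ofNat 0,.ofNat 0,.ofNat 0,.ofNat 0,.ofNat 0,.ofNat 0,.ofNat 0,.ofNat 0,.ofNat 0,.ofNat 0,.ofNat 0,.ofNat 0,.ofNat 0,.ofNat 0,.ofNat 0,.ofNat 0,.ofNat 0,.ofNat 0,.ofNat 0,.ofNat 0,.ofNat 0,.ofNat 0,.ofNat 0]),
  (0,4,[.ofNat 0,.ofNat 0,.ofNat 0,.ofNat 0,.ofNat 0,.ofNat 0,.ofNat 0,.ofNat 0,.ofNat 0,.ofNat 0,.ofNat 0,.ofNat 0,.ofNat 0,.ofNat 0,.ofNat 0,.ofNat 0,.ofNat 0,.ofNat 0,.ofNat 0,.ofNat 0,.ofNat 0,.ofNat 0,.ofNat 0,.ofNat 0,.ofNat 0,.ofNat 0,.ofNat 0,.ofNat 0,.ofNat 0,.ofNat 0,.ofNat 0,.ofNat 0,.ofNat 0,.ofNat 0,.ofNat 0,.ofNat 0,.ofNat 0,.ofNat 0,.ofNat 0,.ofNat 0]),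
  (0,7,[.ofNat 3,.ofNat 0,.ofNat 3,.ofNat 0,.ofNat 0,.ofNat 0,.ofNat 0,.ofNat 0,.ofNat 0,.ofNat 0,.ofNat 0,.ofNat 0,.ofNat 0,.ofNat 0,.ofNat 0,.ofNat 0,.ofNat 0,.ofNat 0,.ofNat 0,.ofNat 0,.ofNat 0,.ofNat 0,.ofNat 0,.ofNat 0,.ofNat 0,.ofNat 0,.ofNat 0,.ofNat 0,.ofNat 0,.ofNat 0,.ofNat 0,.ofNat 0,.ofNat 0,.ofNat 0,.ofNat 0,.ofNat 0,.ofNat 0,.ofNat 0,.ofNat 0,.ofNat 0]),
  (0,8,[.ofNat 3,.ofNat 0,.ofNat 0,.ofNat 0,.ofNat 0,.ofNat 0,.ofNat 0,.ofNat 0,.ofNat 0,.ofNat 0,.ofNat 0,.ofNat 0,.ofNat 0,.ofNat 0,.ofNat 0,.ofNat 0,.ofNat 0,.ofNat 0,.ofNat 0,.ofNat 0,.ofNat 0,.ofNat 0,.ofNat 0,.ofNat 0,.ofNat 0,.ofNat 0,.ofNat 0,.ofNat 0,.ofNat 0,.ofNat 0,.ofNat 0,.ofNat 0,.ofNat 0,.ofNat 0,.ofNat 0,.ofNat 0,.ofNat 0,.ofNat 0,.ofNat 0,.ofNat 0]),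
  (0,11,[.ofNat 0,.ofNat 5,.ofNat 5,.ofNat 0,.ofNat 0,.ofNat 0,.ofNat 0,.ofNat 0,.ofNat 0,.ofNat 0,.ofNat 0,.ofNat 0,.ofNat 0,.ofNat 0,.ofNat 0,.ofNat 0,.ofNat 0,.ofNat 0,.ofNat 0,.ofNat 0,.ofNat 0,.ofNat 0,.ofNat 0,.ofNat 0,.ofNat 0,.ofNat 0,.ofNat 0,.ofNat 0,.ofNat 0,.ofNat 0,.ofNat 0,.ofNat 0,.ofNat 0,.ofNat 0,.ofNat 0,.ofNat 0,.ofNat 0,.ofNat 0,.ofNat 0,.ofNat 0]),
  (0,12,[.ofNat 0,.ofNat 3,.ofNat 0,.ofNat 0,.ofNat 0,.ofNat 0,.ofNat 0,.ofNat 0,.ofNat 0,.ofNat 0,.ofNat 0,.ofNat 0,.ofNat 0,.ofNat 0,.ofNat 0,.ofNat 0,.ofNat 0,.ofNat 0,.ofNat 0,.ofNat 0,.ofNat 0,.ofNat 0,.ofNat 0,.ofNat 0,.ofNat 0,.ofNat 0,.ofNat 0,.ofNat 0,.ofNat 0,.ofNat 0,.ofNat 0,.ofNat 0,.ofNat 0,.ofNat 0,.ofNat 0,.ofNat 0,.ofNat 0,.ofNat 0,.ofNat 0,.ofNat 0]),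
  (0,13,[.ofNat 0,.ofNat 4,.ofNat 0,.ofNat 0,.ofNat 0,.ofNat 0,.ofNat 0,.ofNat 0,.ofNat 0,.ofNat 0,.ofNat 0,.ofNat 0,.ofNat 0,.ofNat 0,.ofNat 0,.ofNat 0,.ofNat 0,.ofNat 0,.ofNat 0,.ofNat 0,.ofNat 0,.ofNat 0,.ofNat 0,.ofNat 0,.ofNat 0,.ofNat 0,.ofNat 0,.ofNat 0,.ofNat 0,.ofNat 0,.ofNat 0,.ofNat 0,.ofNat 0,.ofNat 0,.ofNat 0,.ofNat 0,.ofNat 0,.ofNat 0,.ofNat 0,.ofNat 0]),
  (0,15,[.ofNat 0,.ofNat 0,.ofNat 4,.ofNat 0,.ofNat 0,.ofNat 0,.ofNat 0,.ofNat 0,.ofNat 0,.ofNat 0,.ofNat 0,.ofNat 0,.ofNat 0,.ofNat 0,.ofNat 0,.ofNat 0,.ofNat 0,.ofNat 0,.ofNat 0,.ofNat 0,.ofNat 0,.ofNat 0,.ofNat 0,.ofNat 0,.ofNat 0,.ofNat 0,.ofNat 0,.ofNat 0,.ofNat 0,.ofNat 0,.ofNat 0,.ofNat 0,.ofNat 0,.ofNat 0,.ofNat 0,.ofNat 0,.ofNat 0,.ofNat 0,.ofNat 0,.ofNat 0]),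
  (0,16,[.ofNat 0,.ofNat 0,.ofNat 6,.ofNat 0,.ofNat 0,.ofNat 0,.ofNat 0,.ofNat 0,.ofNat 0,.ofNat 0,.ofNat 0,.ofNat 0,.ofNat 0,.ofNat 0,.ofNat 0,.ofNat 0,.ofNat 0,.ofNat 0,.ofNat 0,.ofNat 0,.ofNat 0,.ofNat 0,.ofNat 0,.ofNat 0,.ofNat 0,.ofNat 0,.ofNat 0,.ofNat 0,.ofNat 0,.ofNat 0,.ofNat 0,.ofNat 0,.ofNat 0,.ofNat 0,.ofNat 0,.ofNat 0,.ofNat 0,.ofNat 0,.ofNat 0,.ofNat 0]),
  (0,18,[.ofNat 0,.ofNat 0,.ofNat 0,.ofNat 0,.ofNat 0,.ofNat 0,.ofNat 0,.ofNat 0,.ofNat 0,.ofNat 0,.ofNat 0,.ofNat 0,.ofNat 0,.ofNat 0,.ofNat 0,.ofNat 0,.ofNat 0,.ofNat 0,.ofNat 0,.ofNat 0,.ofNat 0,.ofNat 0,.ofNat 0,.ofNat 0,.ofNat 0,.ofNat 0,.ofNat 0,.ofNat 0,.ofNat 0,.ofNat 0,.ofNat 0,.ofNat 0,.ofNat 0,.ofNat 0,.ofNat 0,.ofNat 0,.ofNat 0,.ofNat 0,.ofNat 0,.ofNat 0]),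
  (0,26,[.ofNat 2,.ofNat 4,.ofNat 2,.ofNat 0,.ofNat 0,.ofNat 0,.ofNat 0,.ofNat 0,.ofNat 0,.ofNat 0,.ofNat 0,.ofNat 0,.ofNat 0,.ofNat 0,.ofNat 0,.ofNat 0,.ofNat 0,.ofNat 0,.ofNat 0,.ofNat 0,.ofNat 0,.ofNat 0,.ofNat 0,.ofNat 0,.ofNat 0,.ofNat 0,.ofNat 0,.ofNat 0,.ofNat 0,.ofNat 0,.ofNat 0,.ofNat 0,.ofNat 0,.ofNat 0,.ofNat 0,.ofNat 0,.ofNat 0,.ofNat 0,.ofNat 0,.ofNat 0]),
  (0,27,[.ofNat 0,.ofNat 3,.ofNat 0,.ofNat 0,.ofNat 0,.ofNat 0,.ofNat 0,.ofNat 0,.ofNat 0,.ofNat 0,.ofNat 0,.ofNat 0,.ofNat 0,.ofNat 0,.ofNat 0,.ofNat 0,.ofNat 0,.ofNat 0,.ofNat 0,.ofNat 0,.ofNat 0,.ofNat 0,.ofNat 0,.ofNat 0,.ofNat 0,.ofNat 0,.ofNat 0,.ofNat 0,.ofNat 0,.ofNat 0,.ofNat 0,.ofNat 0,.ofNat 0,.ofNat 0,.ofNat 0,.ofNat 0,.ofNat 0,.ofNat 0,.ofNat 0,.ofNat 0]),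
  (0,35,[.ofNat 0,.negSucc 0,.ofNat 0,.ofNat 0,.ofNat 0,.ofNat 0,.ofNat 0,.ofNat 0,.ofNat 0,.ofNat 0,.ofNat 0,.ofNat 0,.ofNat 0,.ofNat 0,.ofNat 0,.ofNat 0,.ofNat 0,.ofNat 0,.ofNat 0,.ofNat 0,.ofNat 0,.ofNat 0,.ofNat 0,.ofNat 0,.ofNat 0,.ofNat 0,.ofNat 0,.ofNat 0,.ofNat 0,.ofNat 0,.ofNat 0,.ofNat 0,.ofNat 0,.ofNat 0,.ofNat 0,.ofNat 0,.ofNat 0,.ofNat 0,.ofNat 0,.ofNat 0]),
  (0,36,[.ofNat 0,.ofNat 0,.negSucc 0,.ofNat 0,.ofNat 0,.ofNat 0,.ofNat 0,.ofNat 0,.ofNat 0,.ofNat 0,.ofNat 0,.ofNat 0,.ofNat 0,.ofNat 0,.ofNat 0,.ofNat 0,.ofNat 0,.ofNat 0,.ofNat 0,.ofNat 0,.ofNat 0,.ofNat 0,.ofNat 0,.ofNat 0,.ofNat 0,.ofNat 0,.ofNat 0,.ofNat 0,.ofNat 0,.ofNat 0,.ofNat 0,.ofNat 0,.ofNat 0,.ofNat 0,.ofNat 0,.ofNat 0,.ofNat 0,.ofNat 0,.ofNat 0,.ofNat 0]),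
  (1,24,[.ofNat 0,.ofNat 0,.ofNat 0,.ofNat 0,.ofNat 0,.ofNat 0,.negSucc 0,.ofNat 0,.ofNat 0,.ofNat 0,.ofNat 0,.ofNat 0,.ofNat 1,.ofNat 0,.ofNat 1,.ofNat 0,.ofNat 0,.ofNat 0,.ofNat 0,.ofNat 0,.ofNat 0,.ofNat 0,.ofNat 0,.ofNat 0,.ofNat 0,.ofNat 0,.ofNat 0,.ofNat 0,.ofNat 0,.ofNat 0,.ofNat 0,.ofNat 0,.ofNat 0,.ofNat 0,.ofNat 0,.ofNat 0,.ofNat 0,.ofNat 0,.ofNat 0,.ofNat 0]),
  (1,32,[.ofNat 0,.ofNat 0,.ofNat 0,.ofNat 0,.ofNat 0,.ofNat 0,.negSucc 0,.ofNat 0,.negSucc 0,.ofNat 0,.ofNat 0,.ofNat 0,.ofNat 1,.ofNat 1,.ofNat 0,.ofNat 0,.ofNat 0,.ofNat 0,.ofNat 0,.ofNat 0,.ofNat 0,.ofNat 0,.ofNat 0,.ofNat 1,.ofNat 0,.ofNat 0,.ofNat 0,.ofNat 0,.ofNat 0,.ofNat 0,.ofNat 0,.ofNat 0,.ofNat 0,.ofNat 0,.ofNat 0,.ofNat 0,.ofNat 0,.ofNat 0,.ofNat 0,.ofNat 0]),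
  (10,32,[.ofNat 0,.ofNat 0,.ofNat 0,.ofNat 0,.ofNat 0,.ofNat 0,.negSucc 0,.ofNat 0,.ofNat 2,.ofNat 0,.ofNat 0,.ofNat 3,.ofNat 1,.ofNat 1,.ofNat 0,.ofNat 0,.ofNat 0,.ofNat 0,.ofNat 0,.ofNat 0,.ofNat 0,.ofNat 0,.ofNat 0,.negSucc 0,.ofNat 0,.ofNat 0,.ofNat 0,.ofNat 0,.ofNat 0,.ofNat 0,.ofNat 0,.ofNat 0,.ofNat 0,.ofNat 0,.ofNat 0,.ofNat 0,.ofNat 0,.ofNat 0,.ofNat 0,.ofNat 0]),
  (14,28,[.ofNat 0,.negSucc 0,.negSucc 2,.ofNat 1,.ofNat 0,.ofNat 0,.negSucc 6,.negSucc 1,.ofNat 0,.negSucc 1,.negSucc 1,.negSucc 0,.ofNat 2,.ofNat 1,.ofNat 3,.ofNat 0,.ofNat 0,.ofNat 0,.ofNat 0,.ofNat 1,.ofNat 0,.ofNat 0,.ofNat 0,.ofNat 0,.ofNat 0,.ofNat 0,.ofNat 0,.ofNat 0,.ofNat 0,.ofNat 0,.ofNat 0,.negSucc 0,.ofNat 0,.negSucc 0,.ofNat 1,.ofNat 0,.ofNat 1,.ofNat 0,.ofNat 0,.ofNat 0]),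
  (35,28,[.ofNat 0,.ofNat 0,.ofNat 0,.ofNat 0,.ofNat 0,.ofNat 0,.ofNat 0,.ofNat 1,.ofNat 0,.ofNat 1,.ofNat 1,.ofNat 0,.ofNat 1,.ofNat 0,.ofNat 0,.ofNat 0,.ofNat 0,.ofNat 0,.ofNat 0,.ofNat 0,.ofNat 0,.ofNat 0,.ofNat 0,.ofNat 0,.ofNat 0,.ofNat 0,.ofNat 0,.ofNat 0,.ofNat 0,.ofNat 0,.ofNat 0,.ofNat 0,.ofNat 0,.ofNat 0,.ofNat 0,.ofNat 0,.ofNat 0,.ofNat 0,.ofNat 0,.ofNat 0]),
  (67,16,[.ofNat 0,.ofNat 0,.ofNat 0,.ofNat 0,.ofNat 0,.ofNat 0,.ofNat 0,.negSucc 0,.ofNat 2,.ofNat 0,.ofNat 2,.ofNat 0,.negSucc 0,.ofNat 0,.ofNat 0,.ofNat 0,.ofNat 0,.ofNat 0,.ofNat 0,.ofNat 0,.ofNat 0,.ofNat 0,.ofNat 0,.ofNat 0,.ofNat 0,.ofNat 0,.ofNat 0,.ofNat 0,.ofNat 0,.ofNat 0,.ofNat 0,.ofNat 0,.ofNat 0,.ofNat 0,.ofNat 0,.ofNat 1,.ofNat 0,.ofNat 0,.ofNat 0,.ofNat 0]),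
  (87,5,[.ofNat 0,.ofNat 0,.ofNat 0,.ofNat 0,.ofNat 0,.ofNat 0,.ofNat 0,.ofNat 0,.ofNat 0,.ofNat 0,.negSucc 3,.negSucc 3,.ofNat 0,.ofNat 0,.ofNat 0,.ofNat 0,.ofNat 0,.ofNat 0,.ofNat 0,.ofNat 0,.ofNat 0,.ofNat 0,.ofNat 0,.ofNat 0,.ofNat 0,.ofNat 0,.ofNat 2,.ofNat 0,.ofNat 0,.ofNat 0,.ofNat 0,.ofNat 0,.ofNat 0,.ofNat 0,.ofNat 0,.ofNat 0,.ofNat 0,.ofNat 0,.ofNat 0,.ofNat 0]),
  (103,9,[.ofNat 0,.ofNat 0,.ofNat 0,.ofNat 0,.ofNat 0,.ofNat 0,.ofNat 0,.ofNat 0,.ofNat 0,.negSucc 1,.ofNat 4,.ofNat 0,.ofNat 0,.ofNat 0,.ofNat 2,.ofNat 0,.ofNat 0,.ofNat 0,.ofNat 0,.ofNat 0,.ofNat 0,.ofNat 0,.ofNat 0,.ofNat 0,.negSucc 0,.ofNat 0,.ofNat 0,.ofNat 0,.ofNat 0,.ofNat 0,.ofNat 0,.ofNat 0,.ofNat 0,.ofNat 0,.ofNat 0,.ofNat 0,.ofNat 0,.ofNat 0,.ofNat 0,.ofNat 0]),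
  (140,23,[.ofNat 0,.ofNat 0,.ofNat 0,.ofNat 0,.ofNat 0,.ofNat 0,.ofNat 0,.ofNat 1,.ofNat 1,.negSucc 0,.ofNat 0,.ofNat 0,.ofNat 1,.ofNat 0,.ofNat 0,.ofNat 0,.ofNat 0,.ofNat 0,.ofNat 0,.ofNat 0,.ofNat 0,.ofNat 0,.ofNat 0,.ofNat 0,.ofNat 0,.ofNat 0,.ofNat 0,.ofNat 0,.ofNat 0,.ofNat 0,.ofNat 0,.ofNat 1,.ofNat 0,.ofNat 0,.ofNat 0,.ofNat 0,.ofNat 0,.ofNat 0,.ofNat 0,.ofNat 0]),
  (169,24,[.ofNat 0,.ofNat 0,.ofNat 0,.ofNat 0,.ofNat 0,.ofNat 0,.ofNat 4,.negSucc 0,.ofNat 0,.ofNat 0,.ofNat 0,.ofNat 0,.negSucc 0,.ofNat 0,.negSucc 0,.ofNat 0,.ofNat 0,.ofNat 0,.ofNat 2,.ofNat 0,.ofNat 0,.ofNat 0,.ofNat 0,.ofNat 0,.ofNat 0,.ofNat 0,.ofNat 0,.ofNat 0,.ofNat 0,.ofNat 0,.ofNat 0,.ofNat 0,.ofNat 0,.ofNat 0,.ofNat 0,.ofNat 0,.ofNat 0,.ofNat 0,.ofNat 0,.ofNat 0]),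
  (200,36,[.negSucc 0,.ofNat 0,.ofNat 4,.ofNat 0,.ofNat 0,.ofNat 0,.ofNat 3,.ofNat 0,.ofNat 5,.negSucc 1,.ofNat 0,.ofNat 4,.negSucc 1,.negSucc 2,.ofNat 0,.ofNat 0,.ofNat 0,.ofNat 0,.ofNat 0,.ofNat 0,.ofNat 0,.ofNat 0,.ofNat 0,.negSucc 3,.ofNat 0,.ofNat 0,.ofNat 0,.ofNat 0,.ofNat 0,.ofNat 0,.ofNat 0,.ofNat 0,.ofNat 0,.ofNat 0,.ofNat 0,.ofNat 0,.ofNat 0,.ofNat 2,.ofNat 0,.ofNat 0]),
  (302,38,[.ofNat 0,.ofNat 0,.ofNat 0,.negSucc 0,.ofNat 0,.ofNat 0,.ofNat 0,.ofNat 1,.ofNat 1,.negSucc 0,.ofNat 0,.ofNat 0,.ofNat 1,.ofNat 0,.ofNat 0,.ofNat 0,.ofNat 0,.ofNat 0,.ofNat 0,.ofNat 0,.ofNat 0,.ofNat 0,.ofNat 0,.ofNat 0,.ofNat 1,.ofNat 0,.ofNat 0,.ofNat 0,.ofNat 0,.ofNat 0,.ofNat 0,.ofNat 0,.ofNat 0,.ofNat 0,.ofNat 0,.negSucc 0,.ofNat 0,.ofNat 0,.ofNat 0,.ofNat 0]),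
  (404,25,[.ofNat 0,.ofNat 0,.ofNat 0,.ofNat 0,.ofNat 0,.ofNat 0,.ofNat 1,.ofNat 1,.ofNat 2,.ofNat 1,.ofNat 0,.ofNat 0,.ofNat 0,.ofNat 0,.ofNat 0,.ofNat 0,.ofNat 0,.ofNat 0,.ofNat 0,.ofNat 0,.ofNat 0,.ofNat 0,.ofNat 0,.ofNat 0,.ofNat 0,.ofNat 0,.ofNat 0,.ofNat 0,.ofNat 0,.ofNat 0,.ofNat 0,.ofNat 0,.ofNat 0,.ofNat 0,.ofNat 0,.ofNat 0,.ofNat 0,.ofNat 0,.ofNat 0,.ofNat 0]),
  (539,23,[.ofNat 0,.ofNat 0,.ofNat 0,.ofNat 0,.ofNat 0,.ofNat 0,.ofNat 0,.negSucc 0,.ofNat 0,.negSucc 0,.ofNat 0,.ofNat 0,.ofNat 0,.negSucc 0,.ofNat 0,.ofNat 0,.ofNat 0,.ofNat 0,.ofNat 0,.ofNat 0,.ofNat 0,.ofNat 0,.ofNat 0,.ofNat 0,.ofNat 0,.ofNat 0,.ofNat 0,.ofNat 1,.ofNat 0,.ofNat 0,.ofNat 0,.ofNat 1,.ofNat 0,.ofNat 0,.ofNat 0,.ofNat 0,.ofNat 0,.ofNat 0,.ofNat 0,.ofNat 0]),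
  (681,22,[.ofNat 2,.ofNat 1,.ofNat 2,.ofNat 0,.ofNat 1,.ofNat 0,.ofNat 3,.ofNat 4,.ofNat 5,.negSucc 1,.ofNat 1,.ofNat 1,.negSucc 0,.negSucc 0,.ofNat 0,.ofNat 0,.ofNat 0,.ofNat 0,.ofNat 0,.negSucc 0,.ofNat 0,.ofNat 0,.negSucc 0,.negSucc 1,.ofNat 0,.ofNat 0,.ofNat 1,.ofNat 0,.ofNat 0,.ofNat 0,.ofNat 0,.ofNat 1,.ofNat 1,.ofNat 0,.ofNat 0,.ofNat 0,.ofNat 1,.negSucc 0,.ofNat 0,.ofNat 0]),
  (1005,31,[.ofNat 0,.ofNat 0,.ofNat 0,.ofNat 0,.ofNat 0,.ofNat 0,.ofNat 0,.ofNat 2,.ofNat 0,.ofNat 2,.ofNat 0,.ofNat 2,.ofNat 0,.ofNat 2,.ofNat 0,.ofNat 0,.ofNat 0,.ofNat 0,.ofNat 0,.ofNat 0,.ofNat 0,.ofNat 0,.ofNat 0,.ofNat 0,.ofNat 0,.ofNat 0,.ofNat 0,.ofNat 0,.ofNat 0,.ofNat 0,.ofNat 0,.ofNat 0,.ofNat 0,.ofNat 0,.ofNat 0,.ofNat 0,.ofNat 0,.negSucc 0,.ofNat 0,.ofNat 0]),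
  (1054,10,[.ofNat 0,.negSucc 0,.negSucc 0,.ofNat 0,.ofNat 0,.ofNat 0,.ofNat 2,.negSucc 0,.negSucc 4,.negSucc 2,.negSucc 3,.ofNat 2,.ofNat 1,.negSucc 0,.ofNat 0,.ofNat 0,.negSucc 0,.negSucc 0,.ofNat 0,.ofNat 0,.ofNat 0,.ofNat 0,.ofNat 0,.ofNat 0,.ofNat 0,.ofNat 0,.ofNat 0,.ofNat 0,.ofNat 0,.ofNat 0,.ofNat 0,.ofNat 2,.ofNat 0,.ofNat 0,.ofNat 0,.ofNat 0,.ofNat 2,.ofNat 1,.ofNat 0,.ofNat 0]),
  (1210,39,[.ofNat 0,.ofNat 0,.ofNat 0,.ofNat 0,.ofNat 0,.ofNat 0,.negSucc 1,.negSucc 2,.ofNat 0,.negSucc 2,.negSucc 0,.ofNat 0,.negSucc 4,.ofNat 0,.ofNat 1,.ofNat 0,.ofNat 0,.ofNat 0,.negSucc 2,.ofNat 0,.ofNat 0,.ofNat 0,.ofNat 0,.negSucc 0,.ofNat 0,.ofNat 0,.ofNat 0,.ofNat 0,.ofNat 0,.ofNat 0,.ofNat 0,.negSucc 1,.ofNat 5,.ofNat 0,.ofNat 2,.negSucc 0,.ofNat 0,.ofNat 1,.ofNat 0,.ofNat 0]),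
  (1638,30,[.ofNat 12,.negSucc 0,.negSucc 6,.ofNat 2,.negSucc 2,.ofNat 0,.negSucc 60,.negSucc 81,.ofNat 9,.negSucc 37,.ofNat 23,.ofNat 7,.ofNat 37,.negSucc 4,.ofNat 14,.ofNat 0,.ofNat 0,.ofNat 2,.ofNat 11,.negSucc 0,.ofNat 1,.ofNat 5,.ofNat 0,.ofNat 4,.negSucc 15,.ofNat 0,.ofNat 0,.ofNat 0,.ofNat 0,.ofNat 0,.ofNat 0,.ofNat 1,.ofNat 7,.negSucc 0,.ofNat 9,.ofNat 2,.negSucc 4,.negSucc 8,.ofNat 0,.negSucc 0]),
  (1773,4,[.negSucc 3,.negSucc 3,.negSucc 5,.ofNat 0,.negSucc 1,.ofNat 0,.negSucc 1,.ofNat 0,.ofNat 0,.ofNat 0,.ofNat 0,.ofNat 0,.ofNat 2,.ofNat 0,.ofNat 0,.ofNat 0,.ofNat 0,.ofNat 0,.ofNat 0,.ofNat 0,.ofNat 0,.ofNat 0,.ofNat 0,.ofNat 0,.ofNat 2,.ofNat 0,.negSucc 1,.ofNat 0,.ofNat 0,.ofNat 0,.ofNat 0,.ofNat 0,.negSucc 1,.ofNat 0,.ofNat 0,.ofNat 0,.ofNat 2,.ofNat 2,.ofNat 0,.ofNat 0]),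
  (1833,14,[.ofNat 0,.ofNat 0,.ofNat 0,.ofNat 0,.ofNat 0,.ofNat 0,.ofNat 0,.ofNat 1,.ofNat 2,.negSucc 0,.ofNat 0,.ofNat 1,.ofNat 0,.negSucc 0,.ofNat 1,.ofNat 0,.ofNat 0,.ofNat 0,.ofNat 1,.ofNat 0,.ofNat 0,.negSucc 0,.ofNat 0,.ofNat 1,.ofNat 0,.ofNat 0,.ofNat 0,.ofNat 0,.ofNat 0,.ofNat 0,.ofNat 0,.ofNat 0,.ofNat 0,.ofNat 0,.ofNat 0,.ofNat 0,.ofNat 0,.ofNat 0,.ofNat 0,.ofNat 0]),
  (2247,35,[.ofNat 0,.ofNat 0,.ofNat 0,.ofNat 0,.ofNat 0,.ofNat 0,.ofNat 1,.ofNat 0,.ofNat 0,.ofNat 0,.ofNat 0,.ofNat 0,.negSucc 0,.ofNat 0,.ofNat 0,.ofNat 0,.ofNat 0,.ofNat 0,.ofNat 0,.ofNat 0,.ofNat 0,.ofNat 0,.ofNat 0,.ofNat 0,.ofNat 0,.ofNat 0,.ofNat 0,.ofNat 0,.ofNat 0,.ofNat 0,.ofNat 0,.ofNat 0,.ofNat 0,.ofNat 0,.ofNat 0,.ofNat 0,.ofNat 0,.ofNat 0,.ofNat 0,.ofNat 0]),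
  (2295,22,[.ofNat 0,.ofNat 0,.ofNat 0,.ofNat 0,.ofNat 0,.ofNat 0,.negSucc 0,.negSucc 0,.negSucc 0,.ofNat 0,.ofNat 0,.ofNat 0,.ofNat 1,.ofNat 1,.ofNat 0,.ofNat 0,.ofNat 0,.ofNat 1,.ofNat 0,.ofNat 0,.ofNat 0,.ofNat 0,.ofNat 0,.ofNat 0,.ofNat 0,.ofNat 0,.ofNat 0,.ofNat 0,.ofNat 0,.ofNat 0,.ofNat 0,.ofNat 0,.ofNat 0,.ofNat 0,.ofNat 0,.ofNat 0,.ofNat 0,.ofNat 0,.ofNat 0,.ofNat 0]),
  (2727,39,[.negSucc 7,.ofNat 10,.ofNat 27,.negSucc 0,.ofNat 1,.ofNat 0,.ofNat 47,.ofNat 40,.ofNat 10,.ofNat 50,.negSucc 20,.ofNat 4,.negSucc 9,.negSucc 0,.negSucc 17,.ofNat 0,.ofNat 0,.negSucc 1,.negSucc 9,.negSucc 8,.negSucc 0,.negSucc 5,.ofNat 2,.negSucc 7,.ofNat 12,.ofNat 0,.ofNat 0,.ofNat 1,.ofNat 0,.ofNat 0,.ofNat 0,.negSucc 11,.ofNat 0,.ofNat 6,.negSucc 8,.ofNat 6,.ofNat 4,.ofNat 4,.ofNat 0,.ofNat 1]),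
  (3377,31,[.ofNat 0,.ofNat 0,.ofNat 0,.ofNat 0,.ofNat 0,.ofNat 0,.negSucc 0,.ofNat 0,.ofNat 0,.ofNat 3,.ofNat 0,.negSucc 0,.ofNat 0,.negSucc 0,.ofNat 0,.ofNat 0,.ofNat 1,.ofNat 0,.ofNat 0,.ofNat 0,.ofNat 0,.ofNat 0,.ofNat 0,.ofNat 1,.ofNat 0,.negSucc 0,.ofNat 0,.ofNat 0,.ofNat 0,.ofNat 0,.ofNat 0,.ofNat 0,.ofNat 0,.ofNat 0,.ofNat 0,.ofNat 0,.ofNat 0,.ofNat 1,.ofNat 0,.ofNat 0]),
  (4160,31,[.ofNat 2,.ofNat 2,.ofNat 2,.ofNat 0,.ofNat 1,.ofNat 0,.negSucc 1,.ofNat 0,.negSucc 1,.ofNat 2,.ofNat 1,.negSucc 2,.negSucc 3,.ofNat 1,.ofNat 0,.ofNat 0,.ofNat 2,.ofNat 0,.ofNat 0,.ofNat 1,.ofNat 0,.ofNat 0,.ofNat 0,.ofNat 1,.negSucc 1,.ofNat 0,.ofNat 0,.ofNat 0,.ofNat 0,.ofNat 0,.ofNat 0,.ofNat 0,.ofNat 1,.ofNat 0,.ofNat 0,.ofNat 1,.negSucc 0,.negSucc 0,.ofNat 0,.ofNat 0]),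
  (4766,19,[.ofNat 0,.ofNat 0,.ofNat 0,.ofNat 0,.ofNat 0,.ofNat 0,.ofNat 1,.negSucc 1,.ofNat 0,.ofNat 0,.ofNat 0,.ofNat 3,.negSucc 0,.ofNat 0,.ofNat 0,.ofNat 0,.ofNat 0,.ofNat 0,.ofNat 2,.ofNat 0,.ofNat 0,.ofNat 0,.ofNat 0,.ofNat 0,.ofNat 0,.ofNat 0,.ofNat 0,.ofNat 0,.ofNat 0,.ofNat 0,.ofNat 0,.ofNat 0,.ofNat 0,.ofNat 0,.ofNat 0,.ofNat 0,.ofNat 0,.ofNat 0,.ofNat 0,.ofNat 0])]
set_option maxRecDepth 100000 in
/-- The relations, packed. -/
def rowsP : List (ℕ × ℕ × ℕ × ℕ) := [(0,0,2,0),
  (0,1,144115188075855872,0),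
  (0,2,10384593717069655257060992658440192,0),
  (0,3,0,0),
  (0,4,0,0),
  (0,7,15576890575604482885591488987660291,0),
  (0,8,3,0),
  (0,11,25961484292674138502940451835740160,0),
  (0,12,216172782113783808,0),
  (0,13,288230376151711744,0),
  (0,15,20769187434139310514121985316880384,0),
  (0,16,31153781151208965771182977975320576,0),
  (0,18,0,0),
  (0,26,10384593717069655545291368810151938,0),
  (0,27,216172782113783808,0),
  (0,35,0,72057594037927936),
  (0,36,0,5192296858534827628530496329220096),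
  (1,24,101745825697019260773923519755878587056848524647129576899010519970633693324181526110044292334656378044244629185168164471286895905299947210968051711352783415050201176216800759581027698930262178929572969058667084997075658992991674157760512,139984046386112763159840142535527767382602843577165595931249318810236991948760059086304843329475444736),
  (1,32,5328861283668172329945723047610411795771014270600552860323385523406647326552760472582266594166949982639319866344591875989188385919141614032967632182106788230617154308808692824015223983794800865505886906999884261901919509879975449275803611468946650721785181055043130325154765459519137706613179121261585306587423504327159718159055882529143742314321382614694787139528832828925517272562270208,726838724295606890549323807888004674337687746800081220121632734708406670716241500491786981963082375797754470366325264238377931104059392),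
  (10,32,1412006979354108768070087663731684495295035528086610767638113360510622338369290281140706137558603470544062761869491693446382769446992303576297645832138609541958942040123169637986035085989557075300260184152050886164611072,5328861283668172329945723047610411795771014270600552860323385523406647326552760472582266594166949982639319866344591875989188385919141614032967632182106788230617154308807280817035869875026730777842155223320417183340387162699544821179884800708832389269366962629279314344211669291534466869729091160314263189705539072303535714148272442547396870442034880855541919641925996090109363351864737792),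
  (14,28,7524389324549354450012295667238058099633332630133408862399713276196748122780035810526696096110713562210597034039249191625742975362210828113710479890252223461635778011027076850329462369311337366757543253217959117615627818544989925968597488297417685552282789273981655243181037153456061834599775023275830234048918390358368244876181604660711627992100782719810025299752309296969923728282808665571017089739741693150146993939937785389766089020573009335556709414326684818009915304290705912959011272747240834836539400202064676007129375928054031041848105489623436799448795795571781371037413201023656607981951590072320,20110922251649967162864105411026134437968851753270217723585666315898961779119976192806794278528922752779447503961713752205320615991406298661461872560972519815215417619426412676512613779374182679262536857693836007555867454098074991359054672243893016468477598921929405268271750391359069838188874463646692079327288041732577086123208780677636587137313078399092713481640763094026395966818319200171885115065925048495455584260527396910557325259479982678812641871375893119045525657222398916466515613224541689761199407694138859159657531257205995302511269147396014080),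
  (35,28,19595533242629369747791401605606562192051351952028868460737969529004092593222570640494597991300842760074147917976874073969479363719793126477017893855017328474283461335594339881290541148412973656345411584,0),
  (67,16,104421878429480286670953610262375330787319189956969712555077670624611188158484793698940801397521342543627357794229052412760858620537242616721953832544991490557667920388950988127079453214028076100866134756928191786557013496027492114032899759004491310380130923074977907898705443226957242267904952515864654452656549355182922686801593485877596375667903681915439849687306037440541338703257025637650502070134467975545154711769128042660251416369437909513424776157810312789280242832189324995373285138505469738531833235284928911319289466035456510861765119311295473344109897229510590132723747378954240,19595533242629369747791401605606558418088927130487463844933662202465281465266200982467734148821805825413353793166132449702011711268147452687165648624658014516752790449665559843751555549428076750508654592),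
  (87,5,3987527419489428978934891797539519074407964567436787186133619573501046471683744380659059161937985807259468675374073145280737497721642052937815042118700682845870910169347677909227832368695028770450412842403709263345644496696985054600802825392442509910854943490420673962888628144965097175804215761432440180478119397118650550445707581358533929378076799381878425215674358616643302551330255407000153121771310799585481738504362758992372927823872,1087770609288739033212126346305621157737225029058036942380146476700188204099850594112301454207784985394392247498467904245303294606568124025393035436213141427026703448401669487174560514048),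
  (103,9,203491651394038521547847039511757134922630564035519658215217828728165646320208077410569861020312304233489995522816029788992826164743199448564954217122542201178516957687170712320407426897903953698656571000849050729122758006997975916609536,383984923062992702193107238768305990575971314802788874095145673202075995393018055488645297669674812185833211621938100469973519720714697045576788566898683254440275883795786334484525778054071087861396060398229434719927672395650215231472663143090071728679455473588870941271118698513098897210658361007315787594431859227634677181808682938915731454643761268794726566783943983553042807407996513473873450996072448),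
  (140,23,3873222737369624529943682915673412349514935994832801788523145562593142672261417519398456218547242273534524437025619137650161277833770996636763023198929825481439986962701924575008648411792650906804282631114981670215305449362172000330029629290055959958294081095840130924394940047386508216518640956646037580253377038440880588814487068779070056033742205038184471560757599087967474341920109649476753011264630647253379739412560432254467588273439894015282654475517875941210365914280862065782846592754769813537444185999760617897984,52374249726338269920211035149241586435466272736689036631732661889538140742474792878132321477214466514414186946040961136147476104734166288853256441430016),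
  (169,24,5486124068793688683255936251187209270074392635932332070112001988456197381759672947165175699536362793613284725337872111744958183862744647903224103718245670299614498700710006264535590197791934024641512541822295980736045006568268739132403828030802830520922836321572784830790107868846380031280022619953299456,101745825697019260773923519755878587056848524647129576899010519970633693324181526110044292334656378044244629185168164481373809491576933889311485976989548549150614429455955106575790810417166952432858885580719246247614063039488439676305408),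
  (200,36,1084378782663392345323340881238361073499988332831986668303203490784386969180593201959204757353249616259227555986932484406050109147385125378502500943256716637487956571721440296892897771402002555121145053895238785103148981678572916909988977331489983645675539836190234259092828248897554067882447131662840781693728859009548955898307589379897495360724425908557386671307871780705238083873454927435853489736676716299136737286806075537299233557053114991596681111129914913183698321091853663096553487672119482735102211956095814519358937857198287796731761715206338381171777150892309965478816236699465828174237304818324235307227868561408,21315445134672689319782892190441647183084057082402211441293542093626589306211041890329066376667799930557279465378367503956753543676566456131870528728427152922468617235233359289081541826391537841117186574572278567440539133921382241876808276019238131908797064751212802820391189367401824528766897584136189738021543094320335067545620789977520220084392287278518076381460886677777198367968854017),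
  (302,38,383984923062992702193107238768305990575971314802788874095145673202075995393018055488645297669674812185833211621938100469973519720714697045576788566898683254440275883795786334484525778054071087861396060417824967962557042143441616837079221561178998859166814570023080467197286580433297003396070901091536239468875828430675368662616934820487558786968378883750103760358416076507070220556349908257778290250481664,104421878429480286670953610262375330787319189956969712555077670624611188158484793698940801397521342543627357794229052412760858620537242616721953832544991490557667920388950988127079453214028076100866134756928191786557013496027492114032899759004491310380130923074977907898705443226957242267904952515864654452656549355182922686801593485877596375667903681915439849687306037440541338703257025637650502070134467975545154711769120494735401773286785800653989137888495012533397437756669391239733473858105135381342563002014067988301060274535813603034371808079706164920527350570384903615452420503502848),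
  (404,25,52374249726338271373888483740455377621027474789684923666496035013702555246010980006332627301617001819296993126172819016716629327864012507262554692648960,0),
  (539,23,3873222737369624529943682915673412349514935994832801788523145562593286338077421857221166501147527583928865911394664972725024692302480540424694930566676004884751438996797655879074882523863918417276746892070134754790713596616844957591793537272451297902200726960069145174621997255212740968475694176865021551558395672519681117274205800057506554126954686621563394337202159938945619364702958710011533059980003676439322808937710016132828636374056815726339194856440606878927210647093838846254005624844081687702501832877710698872832,1412006979354108748474554421102313931675676955925788762341700965431399289430325588222857171532764240081971312608155674004036815360465498748656164590360759721687375623742677020735642913904551401217151250074767287142842368),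
  (681,22,7524389324549354450012295667238056650488661292408472865850279440061620865772665941271284654935143180140377044709087308634193964336232950869834734293156622089409716347549485089175509386340420612024192633708150615054473771045447523610606610773276650842972138878048580427923130402994105562104578637788983039920513678266357423050072820779378105452106698516459246329039165002826875861035437072495859547664780172325099772997257058961343425580073811332829197070715555877833614179737413309766205113720478719531906556486204690462012024536038621678200278452122236195673418773603805006338808138474546956867368262828034,542189391331696172661670440619180536749994166415993334151601745392193484590296600979602378676624808129613777993466242203025054573692562689251250471628358318743978285860720148446448885701001277560572526947619392551574490839286458454994499323467559159182503762347364375027270677651247260944640797524251047587235874572902832554899925351171972444989662435872320082277024361241406166796380221914684444414768574190575487136814852460698933855673258465847007376160510906789993762121102678907823458365618076438105607600801930605798859522886493799037078770310840967810989856657273623300091785871659716716655129082613208476235704827904),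
  (1005,31,2824013958708217496949108842204628407236658556221086582821725440590672964364003728926403699296325997377187922729007912910475950315719522439985723097138559158271993003857567196819744084794551192917523835592190862775287808,542189391331696172661670440619180536749994166415993334151601745392193484590296600979602378676624808129613777993466242203025054573692562689251250471628358318743978285860720148446448885701001277560572526947619392551574490839286458454994488665744991822837769918095117129546414124448777033941223565831420390846864429504774477949153794689948747680362212954278693335653935890352619041936727463717926744868338358149568368643403037768649616778526013610493696186055899318268339432671541328195724261329606699831016666359440874843103020666106568222401047720269951530296879490444224546654729111504346660859907296364097126834834501533696),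
  (1054,10,542189391331696187710449089717889436774585500892106635128924330209139216290855481102285919998700985919367442515916472337967368121175859452407200105118200735856236882594562124530129861752284878905336734534787427990745084581210283198552383990330453860000158118151097002624722983337535794212515871108244357604831886837480821882640702588418951506789216703609767055597520764606729380793914757613389308068887380130055349527317099145615111024041920501481879639351758924325884308897445573937273000847991731882389177488086046248881130283054094946812873562977126454614044116131347728314765037543871644321339080107701302344389471764480,38067632857031246935924931088302700691700046078997104670675085634611014958246415098178685962247564363447778893642053808624223775794675178005940924596748735125492454401863852050337726148008824288692730598293087121306657661785971051633632085355022448126661634970716051688631883323511144448),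
  (1210,39,542189391331696172661670440619180536749994166415996232440944420842065477689164273251810558472759513283037864536772710913693614612782775139691071149665924012491995568766115946996538268110031437936130445339020706707916565333527026605116372655105342147104476462788425866954807301716666304406056944418570385549224259472542656792443710396748825424864325972562611063374162882106941300543087971317189744982703307247594282501458537345192553492905239431233685132068178845172739321225258263695621996982854138794660224026786189812976910018292287771450989713935120619365306029542100415178614812661549994816352465226561895770951488897024,104421878429480286670953610262375330787319189956969712555077670624618934603959532948000688763352689368326387666218718016337904911662428902066476667583788402994762404936020037001130691489328398656533676755530579116623045476936095135568715403925522877804269085211971996567582733120148325757125076786665229375440431996472200743293248620766498393898311863139561434857261842156092459120552852320723941784544108268841303073169303020467099941719875432446986949822542601980156973165975759644155393997322055764036671674267555765881292210490788279037284702240563429397076127460332378637518336935591936),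
  (1638,30,208843756858960586384209262564275085543583284439160035945007715710582336677706106122979513735136406721715661879952042213182288086990912290138442409007633405421275663879308584804597582452780632870057454348014349573963085468490631069688887976024165978225624304167106269114253275878084579945752366785186360575382844594970647724542440013921458679277623930527687667000502489174356360131866646920389497848112119904976503109848819390546001473515614786818065281255224947600478751503575167042056566117547008728988229378893320734193442006008469235770503004046761055789795158301138811436070703028240396,2815208273342476339502141232943314160695248733413879874915637789304021839788258688132194090119229611018067774181983761613623518181973860733761127748304259963352195765485534703132328125702406108453045290606616679451220368261384487328608760087247795665733375525465584642334640803430287017472936310365627154013807632808086387430610493395196838857750062813463107272925016243413573285709003020482358797961908826212780989247277263114512180425672803693713544645122282712190736972889959953838991402489376707008789083516663538823121041524056969800616954408999738114616827972259124623273252989475419891044677725874123599384408762673194976056771345397884167902147379200),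
  (1773,4,1084378782663392360372119530337069973524579667308099969280526075601332700881152082081888298675325794041234775034643465481105056863521597442628578587080955477553924043268996928453743708656373719371424714413357946491081300888144032111990283768763876821590258225308869812345036148060362408720428409367210463512328315261268772773873740494509380554078951170694389353148328603535977208509393379866703108696706685915045364081079814530759757987881312833821801144531197429680364658852637694763362342389362311181616585884507348171615776831828881454704764044170437444716605728869210414320016136723333817887542359774363901973320788082688,558190223255704752815645347836130145811775870691320505231979038976059322557209989579402202735751719047686577006254565093673188609214673674377405365389646766309585184050833346497321812865968897208402095574968500711387157451189818245259735907540448634244642273718637809425137184269812158664382319221142711758289158870325123011232114445646302868767294378367958823100273313402633223678336669964569334425905540187685768285118306914248321490443439789055952798296542391819677030136373401610055202656446038852160339816934255702240811887249103781892),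
  (1833,14,5328861283668172329945723047610411795771014270600552860323385523406647326552760472585009656201346826980947834470185480624225582237107780068023633176334988667322687801650642590323807150400834455793109039293946536508308316455461289189494153498792309071542727281030066597519084174483395526894496581119210166083292008034271781215945649098446046697358427452277458532269748788081150475603279872,1026301351570233739499293428424157827113862320509474868877723027253195088579758740627615722253086934881590063514230345951830442386318247599276166916737060427184672955282623911676342230198269564109407157632000300009291745853373081889547427631981813122761144840475549235156860139987881574558548852883062976139439662420857284099852816575874394504580571332608),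
  (2247,35,139984046386112763159840142535527767382602843577165595931249318810236991948760059086304843329475444736,19595533242629369747791401605606558418088927130487463844933662202465281465266200982457647235235528838735010358900495684567911298014908298340170885513171109743249504533143507682501017145381579984990109696),
  (2295,22,38067632857031246407630399952637454339360261162480498151827759598489492830285706071524378938765334258778314407590472457272068010381868396879559524328639520845807869496398068940917442928782094071211558292069921367034486138289460013815734200676461467494498214145988979993409390179828891648,726838724295606900636237394164991352681122012436846354222045987947561017711004611978691755466368292319806631616863668284874696622604288),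
  (2727,39,2815208273342476339502141232943311449748292074933009042174110144047514608792336251828898565110784493663057498817530456349610467098722641613943117242024791018504350502130881851526429186292986284217904467255432418504402776468553510879451683886065424301412013942554104451365750769882064028339403434335946016878608726990862993770934548803393031927753321426306232763090452714003130648207295428867542117914733159351532763644634233021434681343154837791256963761227579075942505385521893448232920258814000602751772472403420882756221219502466920523415835489860303003707517530727479910401696355163568390301506582996693171662080598709396518270781194248341445694267064320,13042302042039524423968944904525218657169070979494767711052130158139416950236618709548537298660800681999705375212141423718379835205614380496036405810133884793318879623497776361681703830809947188511073051622452531367641733653652240685621928309190287481002705950802526977995338235823985047288993215400987948410090651340642851186779746670623805593724527829429671530601830663526753136855501591526729390465940772708609268879896366111021576469719533471998278002153544016377938177071447509611898013735666776040039569545335329277078261342564625471003859258282370694485063592855994376),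
  (3377,31,542189391331696172661670440619180536749994166415993334151601745392193484590296600979602378676624808129613777993466242203025054573692562689251250471628358318743978285860720148446448885701001277560572526947619392551574490839286458454994493994606275491010099863818164739958209895463047634494083889216943797494190982265247060215747961639931387000228557546155210818570990697213004349353826087112676209348683286952513365222304738401984183793223751283564693761113273258082776446308255257323511123590119623571548576912039614204038724752587213559118442087677122405548820780090742349464552296928113771128795812980089336495523953115136,27669029702758120146491942186874884129832195596687593922941153328644615037061218897472958124908361305229397532165999293867885545372978607205176630181452676933921073841230450143984178961558051196639818354644508554688341188698919679515575428167397925607277184903721414134220127299169582318161267555819945097635005389451048293756642047161465519662998056589328113009257481051350017357214590716749505385559662347549724171567104),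
  (4160,31,104421878429480286670953610262375330787319189956969991650189298476987595981158711764013707285456688203879973783748540442422137225532032317823321708404513340082461302957008357275485290791328060821265111192047141053030460719410621950359415009643140789124841533311032088311635654390474944217391268123102601754355922229380133499674474148693350231073861517939298470155309450695266672896693371131615720270448024512069072895512749533008923733793860319222887936390022921113478558861548085251830814455489729670298849598875095303582021779285010829045712510805983750204343926990630937353001536281640962,542189391331696180186059765168534986762289833654049984640263037800666350440576041040944149337662897020617387517321732740552528431760798721314289293540477738776962021634498464226871854328186859685712357206678973245540650828056939118987844077489177179101119688625749708961392169175854406436209597701660720401461827305446572220148492185355160250559196300044240253362731200451243044530580485719686038874131397028610543436600364281414326809723111269287915418867583279178567062980156992815382020805065191781659304637981727335590316894239931852956840333068960649093048844769116028281127657589464693896200338949330632633848420106240),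
  (4766,19,5486124068793688683255936251187209270074392635932332070112001988456197381759672947165175699536362793613284725337872112560786140829298911490431588982837481877869527529431040298881786473611801970910557388755947320969889504502758402400446085455340162423984368260847515785557304608291034775529477064261369856,19595533242629369747791401605606558418088927130487463844933662202465281465266200982477821062408082812091697227431769214836112124521386607034160411736144919290256076366187612005002093953474573516027199488)]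
set_option maxHeartbeats 0 in
set_option maxRecDepth 100000 in
theorem hFm : (rowsP.map fun x => (x.1, x.2.1, decV 72057594037927936 40 x.2.2.1 x.2.2.2)) = rowsF := by decide +kernel
set_option maxHeartbeats 0 in
set_option maxRecDepth 100000 in
theorem hFb : (rowsP.all fun x => bcond (maskOK mskM cKK x.2.2.1) (maskOK mskM cKK x.2.2.2) false) = true := by decide +kernel
set_option maxHeartbeats 0 in
set_option maxRecDepth 100000 in
theorem hFc : (rowsP.all (chkRowG τ d n RL 40 (n * d) 27997 tv)) = true := by decide +kernel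
theorem hF : ∀ x ∈ rowsF, chkRow C.τ d n RL 40 (n * d) 27997 (toV 72057594037927936 40 tv) x = true :=
  chkRow_of_G (by norm_num) (good_of_mask (W := 56) (b := 40) (by norm_num) (by norm_num) (by norm_num) (by decide +kernel) (by decide +kernel))
    (fun l i hl hi => C.hlt l i hl hi) (fun q _ => words_lg hokR q) (len_of_chk hLn) hEF rowsP rowsF hFm hFb hFc
set_option maxRecDepth 100000 in
/-- A combination. -/
def cb0 : List (ℕ × ℤ) := [(0,.negSucc 1),(1,.negSucc 1),(2,.ofNat 1),(5,.ofNat 1),(15,.negSucc 3),(16,.ofNat 1),(18,.negSucc 1),(19,.ofNat 2),(27,.negSucc 0),(32,.negSucc 0),(38,.ofNat 2)]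
set_option maxHeartbeats 0 in
set_option maxRecDepth 100000 in
theorem hcb0 : chkComb 6 34 rowsF 7 0 (0) cb0 = true := by decide +kernel
set_option maxRecDepth 100000 in
/-- A combination. -/
def cb1 : List (ℕ × ℤ) := [(1,.negSucc 0),(15,.negSucc 1)]
set_option maxHeartbeats 0 in
set_option maxRecDepth 100000 in
theorem hcb1 : chkComb 6 34 rowsF 7 1 (0) cb1 = true := by decide +kernel
set_option maxRecDepth 100000 in
/-- A combination. -/
def cb2 : List (ℕ × ℤ) := [(2,.negSucc 0),(16,.negSucc 1)]
set_option maxHeartbeats 0 in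
set_option maxRecDepth 100000 in
theorem hcb2 : chkComb 6 34 rowsF 7 2 (0) cb2 = true := by decide +kernel
set_option maxRecDepth 100000 in
/-- A combination. -/
def cb3 : List (ℕ × ℤ) := [(3,.negSucc 0)]
set_option maxHeartbeats 0 in
set_option maxRecDepth 100000 in
theorem hcb3 : chkComb 6 34 rowsF 7 3 (0) cb3 = true := by decide +kernel
set_option maxRecDepth 100000 in
/-- A combination. -/
def cb4 : List (ℕ × ℤ) := [(4,.negSucc 0)]
set_option maxHeartbeats 0 in
set_option maxRecDepth 100000 in
theorem hcb4 : chkComb 6 34 rowsF 7 4 (0) cb4 = true := by decide +kernel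
set_option maxRecDepth 100000 in
/-- A combination. -/
def cb5 : List (ℕ × ℤ) := [(0,.ofNat 40),(1,.ofNat 52),(2,.ofNat 115),(3,.ofNat 10),(4,.ofNat 108),(5,.ofNat 18),(6,.negSucc 33),(7,.ofNat 8),(8,.ofNat 28),(9,.ofNat 12),(10,.ofNat 2),(11,.negSucc 43),(12,.ofNat 34),(13,.negSucc 7),(14,.negSucc 17),(15,.ofNat 164),(17,.negSucc 33),(18,.negSucc 2),(19,.ofNat 3),(20,.ofNat 8),(21,.ofNat 4),(22,.ofNat 40),(23,.negSucc 5),(25,.negSucc 1),(26,.ofNat 34),(28,.ofNat 6),(29,.negSucc 5),(30,.ofNat 2),(32,.ofNat 12),(33,.negSucc 7),(34,.ofNat 2),(35,.negSucc 1),(36,.negSucc 5),(38,.negSucc 87),(40,.negSucc 1),(41,.ofNat 16),(42,.negSucc 15),(43,.negSucc 15)]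
set_option maxHeartbeats 0 in
set_option maxRecDepth 100000 in
theorem hcb5 : chkComb 6 34 rowsF 7 5 (0) cb5 = true := by decide +kernel
set_option maxRecDepth 100000 in
/-- A combination. -/
def cb6 : List (ℕ × ℤ) := [(0,.negSucc 1),(1,.negSucc 1),(2,.ofNat 1),(5,.ofNat 1),(15,.negSucc 3),(16,.ofNat 1),(18,.negSucc 1),(19,.ofNat 2),(27,.negSucc 0),(32,.negSucc 0),(38,.ofNat 1)]
set_option maxHeartbeats 0 in
set_option maxRecDepth 100000 in
theorem hcb6 : chkComb 6 34 rowsF 7 6 (0) cb6 = true := by decide +kernel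
set_option maxRecDepth 100000 in
/-- A combination. -/
def cb7 : List (ℕ × ℤ) := [(0,.ofNat 69),(1,.ofNat 122),(2,.ofNat 273),(3,.ofNat 29),(4,.ofNat 281),(5,.ofNat 47),(6,.negSucc 83),(7,.ofNat 19),(8,.ofNat 49),(9,.ofNat 28),(10,.ofNat 5),(11,.negSucc 112),(12,.ofNat 83),(13,.ofNat 5),(14,.negSucc 42),(15,.ofNat 425),(16,.negSucc 2),(17,.negSucc 83),(18,.negSucc 11),(19,.ofNat 12),(20,.ofNat 18),(21,.ofNat 20),(22,.ofNat 103),(23,.negSucc 14),(25,.negSucc 4),(26,.ofNat 84),(27,.negSucc 2),(28,.ofNat 13),(29,.negSucc 20),(30,.ofNat 5),(32,.ofNat 30),(33,.negSucc 18),(34,.ofNat 10),(35,.negSucc 4),(36,.negSucc 14),(38,.negSucc 232),(40,.negSucc 4),(41,.ofNat 42),(42,.negSucc 39),(43,.negSucc 41)]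
set_option maxHeartbeats 0 in
set_option maxRecDepth 100000 in
theorem hcb7 : chkComb 6 34 rowsF 7 7 (-1) cb7 = true := by decide +kernel
set_option maxRecDepth 100000 in
/-- A combination. -/
def cb8 : List (ℕ × ℤ) := [(5,.ofNat 1),(6,.negSucc 0),(16,.ofNat 3)]
set_option maxHeartbeats 0 in
set_option maxRecDepth 100000 in
theorem hcb8 : chkComb 6 34 rowsF 7 8 (1) cb8 = true := by decide +kernel
set_option maxRecDepth 100000 in
/-- A combination. -/
def cb9 : List (ℕ × ℤ) := [(0,.ofNat 69),(1,.ofNat 122),(2,.ofNat 273),(3,.ofNat 31),(4,.ofNat 277),(5,.ofNat 49),(6,.negSucc 85),(7,.ofNat 19),(8,.ofNat 49),(9,.ofNat 28),(10,.ofNat 5),(11,.negSucc 112),(12,.ofNat 84),(13,.ofNat 5),(14,.negSucc 42),(15,.ofNat 425),(16,.ofNat 3),(17,.negSucc 83),(18,.negSucc 11),(19,.ofNat 12),(20,.ofNat 18),(21,.ofNat 20),(22,.ofNat 103),(23,.negSucc 14),(24,.negSucc 0),(25,.negSucc 4),(26,.ofNat 84),(27,.negSucc 2),(28,.ofNat 13),(29,.negSucc 20),(30,.ofNat 5),(32,.ofNat 30),(33,.negSucc 18),(34,.ofNat 10),(35,.negSucc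 4),(36,.negSucc 14),(38,.negSucc 232),(40,.negSucc 4),(41,.ofNat 42),(42,.negSucc 39),(43,.negSucc 41)]
set_option maxHeartbeats 0 in
set_option maxRecDepth 100000 in
theorem hcb9 : chkComb 6 34 rowsF 7 9 (0) cb9 = true := by decide +kernel
set_option maxRecDepth 100000 in
/-- A combination. -/
def cb10 : List (ℕ × ℤ) := [(0,.ofNat 173),(1,.ofNat 257),(2,.ofNat 560),(3,.ofNat 57),(4,.ofNat 551),(5,.ofNat 92),(6,.negSucc 170),(7,.ofNat 39),(8,.ofNat 119),(9,.ofNat 58),(10,.ofNat 10),(11,.negSucc 222),(12,.ofNat 168),(13,.negSucc 14),(14,.negSucc 87),(15,.ofNat 845),(16,.ofNat 4),(17,.negSucc 169),(18,.negSucc 15),(19,.ofNat 16),(20,.ofNat 38),(21,.ofNat 30),(22,.ofNat 203),(23,.negSucc 29),(25,.negSucc 9),(26,.ofNat 170),(27,.negSucc 0),(28,.ofNat 28),(29,.negSucc 35),(30,.ofNat 10),(32,.ofNat 62),(33,.negSucc 38),(34,.ofNat 15),(35,.negSucc 9),(36,.negSucc 29),(38,.negSucc 457),(40,.negSucc 9),(41,.ofNat 83),(42,.negSucc 79),(43,.negSucc 82)]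
set_option maxHeartbeats 0 in
set_option maxRecDepth 100000 in
theorem hcb10 : chkComb 6 34 rowsF 7 10 (1) cb10 = true := by decide +kernel
set_option maxRecDepth 100000 in
/-- A combination. -/
def cb11 : List (ℕ × ℤ) := [(7,.negSucc 0),(15,.negSucc 4),(16,.negSucc 4)]
set_option maxHeartbeats 0 in
set_option maxRecDepth 100000 in
theorem hcb11 : chkComb 6 34 rowsF 7 11 (0) cb11 = true := by decide +kernel
set_option maxRecDepth 100000 in
/-- A combination. -/
def cb12 : List (ℕ × ℤ) := [(8,.negSucc 0),(15,.negSucc 2)]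
set_option maxHeartbeats 0 in
set_option maxRecDepth 100000 in
theorem hcb12 : chkComb 6 34 rowsF 7 12 (0) cb12 = true := by decide +kernel
set_option maxRecDepth 100000 in
/-- A combination. -/
def cb13 : List (ℕ × ℤ) := [(9,.negSucc 0),(15,.negSucc 3)]
set_option maxHeartbeats 0 in
set_option maxRecDepth 100000 in
theorem hcb13 : chkComb 6 34 rowsF 7 13 (0) cb13 = true := by decide +kernel
set_option maxRecDepth 100000 in
/-- A combination. -/
def cb14 : List (ℕ × ℤ) := [(0,.ofNat 25),(1,.ofNat 2),(2,.ofNat 14),(3,.negSucc 2),(4,.negSucc 10),(7,.ofNat 1),(8,.ofNat 18),(9,.ofNat 2),(10,.ofNat 1),(11,.ofNat 3),(12,.ofNat 2),(13,.negSucc 24),(14,.negSucc 1),(15,.negSucc 35),(18,.negSucc 0),(19,.ofNat 1),(20,.ofNat 2),(21,.negSucc 9),(22,.negSucc 2),(28,.ofNat 2),(29,.ofNat 6),(32,.negSucc 2),(33,.negSucc 0),(34,.negSucc 4),(37,.negSucc 0),(38,.ofNat 21),(41,.negSucc 1),(43,.ofNat 2)]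
set_option maxHeartbeats 0 in
set_option maxRecDepth 100000 in
theorem hcb14 : chkComb 6 34 rowsF 7 14 (0) cb14 = true := by decide +kernel
set_option maxRecDepth 100000 in
/-- A combination. -/
def cb15 : List (ℕ × ℤ) := [(10,.negSucc 0),(16,.negSucc 3)]
set_option maxHeartbeats 0 in
set_option maxRecDepth 100000 in
theorem hcb15 : chkComb 6 34 rowsF 7 15 (0) cb15 = true := by decide +kernel
set_option maxRecDepth 100000 in
/-- A combination. -/
def cb16 : List (ℕ × ℤ) := [(11,.negSucc 0),(16,.negSucc 5)]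
set_option maxHeartbeats 0 in
set_option maxRecDepth 100000 in
theorem hcb16 : chkComb 6 34 rowsF 7 16 (0) cb16 = true := by decide +kernel
set_option maxRecDepth 100000 in
/-- A combination. -/
def cb17 : List (ℕ × ℤ) := [(0,.negSucc 14),(1,.negSucc 48),(2,.negSucc 98),(3,.negSucc 13),(4,.negSucc 118),(5,.negSucc 18),(6,.ofNat 35),(7,.negSucc 6),(8,.negSucc 8),(9,.negSucc 9),(10,.negSucc 1),(11,.ofNat 47),(12,.negSucc 31),(13,.negSucc 16),(14,.ofNat 16),(15,.negSucc 194),(16,.negSucc 2),(17,.ofNat 34),(18,.ofNat 2),(19,.negSucc 1),(20,.negSucc 5),(21,.negSucc 13),(22,.negSucc 42),(23,.ofNat 6),(25,.ofNat 2),(26,.negSucc 33),(28,.negSucc 3),(29,.ofNat 12),(30,.negSucc 1),(32,.negSucc 14),(33,.ofNat 7),(34,.negSucc 6),(35,.ofNat 2),(36,.ofNat 6),(38,.ofNat 109),(40,.ofNat 2),(41,.negSucc 17),(42,.ofNat 16),(43,.ofNat 18)]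
set_option maxHeartbeats 0 in
set_option maxRecDepth 100000 in
theorem hcb17 : chkComb 6 34 rowsF 7 17 (0) cb17 = true := by decide +kernel
set_option maxRecDepth 100000 in
/-- A combination. -/
def cb18 : List (ℕ × ℤ) := [(12,.negSucc 0)]
set_option maxHeartbeats 0 in
set_option maxRecDepth 100000 in
theorem hcb18 : chkComb 6 34 rowsF 7 18 (0) cb18 = true := by decide +kernel
set_option maxRecDepth 100000 in
/-- A combination. -/
def cb19 : List (ℕ × ℤ) := [(0,.ofNat 120),(1,.ofNat 158),(2,.ofNat 345),(3,.ofNat 30),(4,.ofNat 324),(5,.ofNat 54),(6,.negSucc 101),(7,.ofNat 24),(8,.ofNat 82),(9,.ofNat 36),(10,.ofNat 6),(11,.negSucc 131),(12,.ofNat 102),(13,.negSucc 23),(14,.negSucc 53),(15,.ofNat 490),(17,.negSucc 101),(18,.negSucc 8),(19,.ofNat 9),(20,.ofNat 24),(21,.ofNat 12),(22,.ofNat 120),(23,.negSucc 17),(25,.negSucc 5),(26,.ofNat 102),(28,.ofNat 18),(29,.negSucc 17),(30,.ofNat 6),(32,.ofNat 36),(33,.negSucc 23),(34,.ofNat 6),(35,.negSucc 5),(36,.negSucc 17),(38,.negSucc 262),(40,.negSucc 5),(41,.ofNat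 48),(42,.negSucc 47),(43,.negSucc 48)]
set_option maxHeartbeats 0 in
set_option maxRecDepth 100000 in
theorem hcb19 : chkComb 6 34 rowsF 7 19 (0) cb19 = true := by decide +kernel
set_option maxRecDepth 100000 in
/-- A combination. -/
def cb20 : List (ℕ × ℤ) := [(0,.ofNat 25),(1,.negSucc 1),(2,.ofNat 9),(3,.negSucc 1),(4,.negSucc 20),(5,.ofNat 1),(6,.negSucc 0),(7,.ofNat 1),(8,.ofNat 21),(9,.ofNat 4),(11,.ofNat 5),(13,.negSucc 24),(14,.negSucc 1),(15,.negSucc 26),(17,.negSucc 0),(18,.negSucc 2),(19,.ofNat 3),(20,.ofNat 2),(21,.negSucc 9),(22,.negSucc 3),(23,.ofNat 1),(26,.ofNat 1),(28,.ofNat 2),(29,.ofNat 7),(31,.negSucc 0),(32,.negSucc 2),(34,.negSucc 4),(38,.ofNat 19),(39,.ofNat 1),(41,.negSucc 1),(42,.ofNat 1),(43,.ofNat 2)]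
set_option maxHeartbeats 0 in
set_option maxRecDepth 100000 in
theorem hcb20 : chkComb 6 34 rowsF 7 20 (0) cb20 = true := by decide +kernel
set_option maxRecDepth 100000 in
/-- A combination. -/
def cb21 : List (ℕ × ℤ) := [(0,.negSucc 1),(1,.negSucc 3),(5,.ofNat 1),(15,.negSucc 7),(16,.negSucc 0),(18,.negSucc 1),(19,.ofNat 2),(25,.negSucc 0),(27,.negSucc 0),(30,.ofNat 1),(32,.negSucc 0),(38,.ofNat 1)]
set_option maxHeartbeats 0 in
set_option maxRecDepth 100000 in
theorem hcb21 : chkComb 6 34 rowsF 7 21 (1) cb21 = true := by decide +kernel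
set_option maxRecDepth 100000 in
/-- A combination. -/
def cb22 : List (ℕ × ℤ) := [(1,.ofNat 1),(2,.ofNat 1),(7,.negSucc 0),(15,.negSucc 2),(16,.negSucc 2),(38,.negSucc 0),(39,.negSucc 0)]
set_option maxHeartbeats 0 in
set_option maxRecDepth 100000 in
theorem hcb22 : chkComb 6 34 rowsF 7 22 (1) cb22 = true := by decide +kernel
set_option maxRecDepth 100000 in
/-- A combination. -/
def cb23 : List (ℕ × ℤ) := [(0,.negSucc 3),(1,.negSucc 5),(2,.negSucc 0),(5,.ofNat 2),(15,.negSucc 11),(16,.negSucc 3),(18,.negSucc 3),(19,.ofNat 4),(25,.negSucc 0),(27,.negSucc 1),(29,.negSucc 0),(32,.negSucc 1),(38,.ofNat 3)]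
set_option maxHeartbeats 0 in
set_option maxRecDepth 100000 in
theorem hcb23 : chkComb 6 34 rowsF 7 23 (0) cb23 = true := by decide +kernel
set_option maxRecDepth 100000 in
/-- A combination. -/
def cb24 : List (ℕ × ℤ) := [(5,.ofNat 1),(6,.negSucc 0),(16,.ofNat 3),(17,.negSucc 0),(38,.negSucc 0)]
set_option maxHeartbeats 0 in
set_option maxRecDepth 100000 in
theorem hcb24 : chkComb 6 34 rowsF 7 24 (1) cb24 = true := by decide +kernel
set_option maxRecDepth 100000 in
/-- A combination. -/
def cb25 : List (ℕ × ℤ) := [(0,.negSucc 1),(1,.negSucc 2),(2,.negSucc 0),(3,.negSucc 0),(5,.ofNat 1),(15,.negSucc 5),(16,.negSucc 2),(18,.negSucc 1),(19,.ofNat 2),(27,.negSucc 0),(29,.negSucc 0),(32,.negSucc 0),(38,.ofNat 2)]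
set_option maxHeartbeats 0 in
set_option maxRecDepth 100000 in
theorem hcb25 : chkComb 6 34 rowsF 7 25 (0) cb25 = true := by decide +kernel
set_option maxRecDepth 100000 in
/-- A combination. -/
def cb26 : List (ℕ × ℤ) := [(0,.negSucc 0),(1,.negSucc 1),(2,.ofNat 1),(5,.ofNat 1),(13,.negSucc 0),(15,.negSucc 7),(16,.negSucc 0),(18,.negSucc 1),(19,.ofNat 2),(27,.negSucc 0),(32,.negSucc 0),(38,.ofNat 2)]
set_option maxHeartbeats 0 in
set_option maxRecDepth 100000 in
theorem hcb26 : chkComb 6 34 rowsF 7 26 (0) cb26 = true := by decide +kernel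
set_option maxRecDepth 100000 in
/-- A combination. -/
def cb27 : List (ℕ × ℤ) := [(14,.negSucc 0),(15,.negSucc 2)]
set_option maxHeartbeats 0 in
set_option maxRecDepth 100000 in
theorem hcb27 : chkComb 6 34 rowsF 7 27 (0) cb27 = true := by decide +kernel
set_option maxRecDepth 100000 in
/-- A combination. -/
def cb28 : List (ℕ × ℤ) := [(0,.negSucc 1),(1,.negSucc 2),(2,.ofNat 1),(3,.negSucc 0),(4,.negSucc 0),(5,.ofNat 1),(15,.negSucc 5),(16,.ofNat 1),(18,.negSucc 1),(19,.ofNat 2),(21,.negSucc 0),(27,.negSucc 0),(32,.negSucc 0),(38,.ofNat 1)]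
set_option maxHeartbeats 0 in
set_option maxRecDepth 100000 in
theorem hcb28 : chkComb 6 34 rowsF 7 28 (0) cb28 = true := by decide +kernel
set_option maxRecDepth 100000 in
/-- A combination. -/
def cb29 : List (ℕ × ℤ) := [(0,.negSucc 1),(1,.negSucc 2),(2,.ofNat 3),(4,.ofNat 2),(5,.ofNat 1),(11,.negSucc 0),(15,.negSucc 5),(16,.negSucc 0),(18,.negSucc 1),(19,.ofNat 2),(22,.ofNat 1),(27,.negSucc 0),(32,.negSucc 0),(38,.ofNat 1)]
set_option maxHeartbeats 0 in
set_option maxRecDepth 100000 in
theorem hcb29 : chkComb 6 34 rowsF 7 29 (0) cb29 = true := by decide +kernel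
set_option maxRecDepth 100000 in
/-- A combination. -/
def cb30 : List (ℕ × ℤ) := [(0,.ofNat 10),(1,.ofNat 3),(2,.ofNat 8),(4,.negSucc 5),(5,.negSucc 0),(6,.ofNat 1),(8,.ofNat 6),(9,.ofNat 1),(11,.ofNat 1),(12,.ofNat 1),(13,.negSucc 9),(14,.negSucc 0),(15,.negSucc 15),(16,.negSucc 3),(18,.negSucc 0),(19,.ofNat 1),(20,.ofNat 1),(21,.negSucc 3),(22,.negSucc 0),(28,.ofNat 1),(29,.ofNat 3),(32,.negSucc 0),(34,.negSucc 1),(38,.ofNat 10)]
set_option maxHeartbeats 0 in
set_option maxRecDepth 100000 in
theorem hcb30 : chkComb 6 34 rowsF 7 30 (0) cb30 = true := by decide +kernel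
set_option maxRecDepth 100000 in
/-- A combination. -/
def cb31 : List (ℕ × ℤ) := [(0,.negSucc 19),(1,.negSucc 53),(2,.negSucc 100),(3,.negSucc 16),(4,.negSucc 115),(5,.negSucc 17),(6,.ofNat 34),(7,.negSucc 6),(8,.negSucc 9),(9,.negSucc 9),(10,.negSucc 1),(11,.ofNat 46),(12,.negSucc 31),(13,.negSucc 11),(14,.ofNat 16),(15,.negSucc 187),(17,.ofNat 33),(18,.ofNat 2),(19,.negSucc 1),(20,.negSucc 5),(21,.negSucc 11),(22,.negSucc 41),(23,.ofNat 6),(25,.ofNat 2),(26,.negSucc 32),(28,.negSucc 3),(29,.ofNat 10),(30,.negSucc 1),(32,.negSucc 14),(33,.ofNat 7),(34,.negSucc 5),(35,.ofNat 2),(36,.ofNat 6),(38,.ofNat 103),(40,.ofNat 2),(41,.negSucc 17),(42,.ofNat 16),(43,.ofNat 18)]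
set_option maxHeartbeats 0 in
set_option maxRecDepth 100000 in
theorem hcb31 : chkComb 6 34 rowsF 7 31 (1) cb31 = true := by decide +kernel
set_option maxRecDepth 100000 in
/-- A combination. -/
def cb32 : List (ℕ × ℤ) := [(0,.negSucc 14),(1,.negSucc 48),(2,.negSucc 97),(3,.negSucc 13),(4,.negSucc 118),(5,.negSucc 18),(6,.ofNat 35),(7,.negSucc 6),(8,.negSucc 8),(9,.negSucc 9),(10,.negSucc 1),(11,.ofNat 47),(12,.negSucc 31),(13,.negSucc 16),(14,.ofNat 16),(15,.negSucc 194),(16,.negSucc 0),(17,.ofNat 34),(18,.ofNat 1),(19,.negSucc 1),(20,.negSucc 5),(21,.negSucc 13),(22,.negSucc 42),(23,.ofNat 6),(25,.ofNat 2),(26,.negSucc 33),(28,.negSucc 3),(29,.ofNat 12),(30,.negSucc 1),(32,.negSucc 14),(33,.ofNat 7),(34,.negSucc 6),(35,.ofNat 2),(36,.ofNat 6),(38,.ofNat 108),(40,.ofNat 2),(41,.negSucc 17),(42,.ofNat 16),(43,.ofNat 18)]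
set_option maxHeartbeats 0 in
set_option maxRecDepth 100000 in
theorem hcb32 : chkComb 6 34 rowsF 7 32 (1) cb32 = true := by decide +kernel
set_option maxRecDepth 100000 in
/-- A combination. -/
def cb33 : List (ℕ × ℤ) := [(0,.ofNat 19),(1,.negSucc 17),(2,.negSucc 117),(3,.ofNat 21),(4,.negSucc 151),(5,.negSucc 12),(6,.ofNat 20),(7,.negSucc 5),(8,.negSucc 14),(9,.negSucc 20),(10,.negSucc 6),(11,.ofNat 55),(12,.negSucc 15),(13,.negSucc 32),(14,.ofNat 21),(15,.negSucc 228),(16,.ofNat 1),(17,.ofNat 36),(18,.ofNat 4),(19,.negSucc 3),(20,.negSucc 4),(21,.negSucc 28),(22,.negSucc 48),(23,.ofNat 5),(25,.ofNat 3),(26,.negSucc 35),(27,.negSucc 0),(28,.negSucc 3),(29,.negSucc 0),(30,.negSucc 2),(32,.negSucc 14),(33,.ofNat 4),(34,.negSucc 9),(35,.ofNat 2),(36,.ofNat 5),(37,.negSucc 0),(38,.ofNat 121),(40,.ofNat 3),(41,.negSucc 17),(42,.ofNat 13),(43,.ofNat 18)]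
set_option maxHeartbeats 0 in
set_option maxRecDepth 100000 in
theorem hcb33 : chkComb 6 34 rowsF 7 33 (1) cb33 = true := by decide +kernel

theorem hcert : ∀ q, q < 34 → ∃ (a : ℤ) (L : List (ℕ × ℤ)), chkComb 6 34 rowsF 7 q a L = true ∧ (q = 7 → a = 1 - ((2 : ℕ) : ℤ)) := by
  intro q hq
  interval_cases q
  · exact ⟨0, cb0, hcb0, by norm_num⟩
  · exact ⟨0, cb1, hcb1, by norm_num⟩
  · exact ⟨0, cb2, hcb2, by norm_num⟩
  · exact ⟨0, cb3, hcb3, by norm_num⟩
  · exact ⟨0, cb4, hcb4, by norm_num⟩
  · exact ⟨0, cb5, hcb5, by norm_num⟩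
  · exact ⟨0, cb6, hcb6, by norm_num⟩
  · exact ⟨-1, cb7, hcb7, by norm_num⟩
  · exact ⟨1, cb8, hcb8, by norm_num⟩
  · exact ⟨0, cb9, hcb9, by norm_num⟩
  · exact ⟨1, cb10, hcb10, by norm_num⟩
  · exact ⟨0, cb11, hcb11, by norm_num⟩
  · exact ⟨0, cb12, hcb12, by norm_num⟩
  · exact ⟨0, cb13, hcb13, by norm_num⟩
  · exact ⟨0, cb14, hcb14, by norm_num⟩
  · exact ⟨0, cb15, hcb15, by norm_num⟩
  · exact ⟨0, cb16, hcb16, by norm_num⟩
  · exact ⟨0, cb17, hcb17, by norm_num⟩
  · exact ⟨0, cb18, hcb18, by norm_num⟩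
  · exact ⟨0, cb19, hcb19, by norm_num⟩
  · exact ⟨0, cb20, hcb20, by norm_num⟩
  · exact ⟨1, cb21, hcb21, by norm_num⟩
  · exact ⟨1, cb22, hcb22, by norm_num⟩
  · exact ⟨0, cb23, hcb23, by norm_num⟩
  · exact ⟨1, cb24, hcb24, by norm_num⟩
  · exact ⟨0, cb25, hcb25, by norm_num⟩
  · exact ⟨0, cb26, hcb26, by norm_num⟩
  · exact ⟨0, cb27, hcb27, by norm_num⟩
  · exact ⟨0, cb28, hcb28, by norm_num⟩
  · exact ⟨0, cb29, hcb29, by norm_num⟩
  · exact ⟨0, cb30, hcb30, by norm_num⟩
  · exact ⟨1, cb31, hcb31, by norm_num⟩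
  · exact ⟨1, cb32, hcb32, by norm_num⟩
  · exact ⟨1, cb33, hcb33, by norm_num⟩


end Cfsg.Agent.Lib.KnownSimple.MultM.HSL
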